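import Groth.Agent.GenusOneSS.Rational
import Groth.Agent.QCoh.ProperOver
import Groth.Agent.InvX.GenLocus
import Groth.Agent.Lib.CurveCanonical
import Groth.Agent.CurveGenusZero.Basic

/-!
Twisting an invertible module down by a rational point.
-/

set_option linter.style.haveILetI false
set_option linter.unusedSectionVars false
set_option backward.isDefEq.respectTransparency false
set_option backward.isDefEq.respectTransparency.types false
set_option synthInstance.maxHeartbeats 100000
set_option maxHeartbeats 1600000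

noncomputable section

universe u

open CategoryTheory CategoryTheory.Limits AlgebraicGeometry TopologicalSpace Opposite

namespace Groth.Agent.CurvePts22

open Groth.Agent.CurveBundle Groth.Agent.CurveSlope Groth.Agent.CurveStable Groth.Agent.CurvePoint
open Groth.Agent.PnCoh.Finite (mapLin)

theorem vanishing_le_ker {X Y : Scheme.{u}} (f : X ⟶ Y) [IsReduced X] (C : Closeds Y) (hC : Set.range f ⊆ C) :
    Scheme.IdealSheafData.vanishingIdeal C ≤ f.ker := by
  refine Scheme.IdealSheafData.le_ofIdeals_iff.mpr fun U s hs => ?_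
  rw [Scheme.IdealSheafData.vanishingIdeal_ideal, PrimeSpectrum.mem_vanishingIdeal] at hs
  show f.app U s = 0
  rw [← basicOpen_eq_bot_iff, ← le_bot_iff]
  intro x hx
  rw [← Scheme.preimage_basicOpen] at hx
  have hxU : f x ∈ U.1 := Y.basicOpen_le s hx
  obtain ⟨p, hp⟩ : f x ∈ Set.range U.2.fromSpec := by rw [U.2.range_fromSpec]; exact hxU
  have hpb : p ∈ U.2.fromSpec ⁻¹ᵁ Y.basicOpen s := by
    show U.2.fromSpec p ∈ Y.basicOpen s
    rw [hp]; exact hx
  rw [U.2.fromSpec_preimage_basicOpen] at hpb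
  exact absurd (hs p (by show U.2.fromSpec p ∈ (C : Set Y); rw [hp]; exact hC ⟨x, rfl⟩))
    ((PrimeSpectrum.mem_basicOpen s p).1 hpb)

variable (k : Type u) [Field k] {X : Scheme.{u}} [X.Over (Spec (CommRingCat.of k))]
  [IsIntegral X] [IsProper (X ↘ Spec (CommRingCat.of k))] [Smooth (X ↘ Spec (CommRingCat.of k))]

theorem ker_eq_ptIdeal (σ : Spec (CommRingCat.of k) ⟶ X) (hσ : σ ≫ (X ↘ Spec (CommRingCat.of k)) = 𝟙 _) :
    ∃ (p : X) (hp : IsClosed ({p} : Set X)), σ.ker = ptIdeal p hp ∧
      σ (IsLocalRing.closedPoint k) = p ∧ Curv2.euler k X (ClSub.quotMod (ptIdeal p hp)) = 1 := by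
  haveI : IsClosedImmersion (σ ≫ (X ↘ Spec (CommRingCat.of k))) := by rw [hσ]; infer_instance
  haveI : IsClosedImmersion σ := IsClosedImmersion.of_comp σ (X ↘ Spec (CommRingCat.of k))
  have hp : IsClosed ({σ (IsLocalRing.closedPoint k)} : Set X) := by
    rw [← Set.image_singleton]
    exact σ.isClosedEmbedding.isClosedMap _ (IsLocalRing.isClosed_singleton_closedPoint k)
  have hpt : ∀ t, σ t = σ (IsLocalRing.closedPoint k) := fun t => by
    haveI : Subsingleton (Spec (CommRingCat.of k)) := inferInstanceAs (Subsingleton (PrimeSpectrum k))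
    rw [Subsingleton.elim t (IsLocalRing.closedPoint k)]
  have hrange : Set.range σ = {σ (IsLocalRing.closedPoint k)} := Set.eq_singleton_iff_unique_mem.2
    ⟨⟨_, rfl⟩, fun _ ⟨t, ht⟩ => ht ▸ hpt t⟩
  exact ⟨_, hp, le_antisymm (QCoh.ker_le_vanishingIdeal σ ⟨_, hp⟩ hrange.ge)
    (vanishing_le_ker σ ⟨_, hp⟩ hrange.le), rfl,
    CurveTwistBC.euler_quot_pt _ hp (CurveTwistBC.sub_mem_of_section σ hσ)⟩


omit [IsProper (X ↘ Spec (CommRingCat.of k))] [Smooth (X ↘ Spec (CommRingCat.of k))] [IsIntegral X] in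
/-- A section not generating at a point dies in the fibre. -/
theorem comp_toSubscheme_eq_zero {L : X.Modules} (hL : PicF.IsInvertible L) (x : X) (hx : IsClosed ({x} : Set X))
    (s : Coh.structureModule X ⟶ L) (hxs : x ∉ CohB1.genLocus L s) :
    s ≫ (KFlatLib.tensorUnitIso L).inv ≫ (DCoh.tensorBi.obj L).map (ClSub.toSubscheme (ptIdeal x hx)) = 0 := by
  let e : (DCoh.tensorBi.obj L).obj (Coh.structureModule X) ≅ L := KFlatLib.tensorUnitIso L
  let q : L ⟶ (DCoh.tensorBi.obj L).obj (ClSub.quotMod (ptIdeal x hx)) :=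
    e.inv ≫ (DCoh.tensorBi.obj L).map (ClSub.toSubscheme (ptIdeal x hx))
  show s ≫ q = 0
  refine AmpleX.eq_zero_of_one_eq_zero _ ?_
  let Q := (DCoh.tensorBi.obj L).obj (ClSub.quotMod (ptIdeal x hx))
  refine TopCat.Presheaf.section_ext ⟨Q.presheaf, Q.isSheaf⟩ ⊤ _ _ fun y _ => ?_
  change Q.presheaf.germ ⊤ y trivial (q.app ⊤ (InvX.one s)) = Q.presheaf.germ ⊤ y trivial 0
  rw [map_zero]
  by_cases hy : y = x
  · subst hy
    obtain ⟨U, hyU, e₀, he₀⟩ := InvX.exists_frame hL y
    obtain ⟨g, hg⟩ := he₀.exists_coord le_rfl (AModX.res L (le_top : U ≤ ⊤) (InvX.one s))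
    rw [AModX.res_self] at hg
    have hm : X.presheaf.germ U y hyU g ∈ IsLocalRing.maximalIdeal (X.presheaf.stalk y) := fun hu => by
      have h1 : y ∈ X.basicOpen g := (X.mem_basicOpen g y hyU).2 hu
      rw [← InvX.genLocus_inf s he₀ hg] at h1
      exact hxs h1.1
    rw [← Q.presheaf.germ_res_apply (homOfLE (le_top : U ≤ ⊤)) y hyU (q.app ⊤ (InvX.one s))]
    have h2 : Q.presheaf.map (homOfLE (le_top : U ≤ ⊤)).op (q.app ⊤ (InvX.one s)) =
        g • q.app U e₀ := by
      refine (AModX.app_res q (le_top : U ≤ ⊤) (InvX.one s)).symm.trans ?_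
      rw [hg, Scheme.Modules.Hom.app_smul]
    rw [h2]
    exact (QCoh.germ_smul' Q hyU g (q.app U e₀)).trans (smul_tensor_eq_zero y hx hm _)
  · haveI : Subsingleton (Q.presheaf.stalk y) := by
      by_contra hne
      exact CurveTensor.support_tensor_subset hne (subsingleton_stalk_of_ne x hx hy)
    exact Subsingleton.elim _ _

variable (hdim : topologicalKrullDim X = 1)
include hdim

/-- Twisting by a rational point lowers the sections by one unless the point is a base point. -/
theorem finrank_twist_rat {L : X.Modules} (hL : PicF.IsInvertible L) {p : X} {hp : IsClosed ({p} : Set X)}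
    (he : Curv2.euler k X (ClSub.quotMod (ptIdeal p hp)) = 1) :
    (∀ s : Coh.structureModule X ⟶ L, p ∈ CohB1.genLocus L s →
      Module.finrank k (Coh.HH X ((DCoh.tensorBi.obj L).obj (ptMod p hp)) 0) + 1 = Module.finrank k (Coh.HH X L 0)) ∧
    ((∀ s : Coh.structureModule X ⟶ L, p ∉ CohB1.genLocus L s) →
      Module.finrank k (Coh.HH X ((DCoh.tensorBi.obj L).obj (ptMod p hp)) 0) = Module.finrank k (Coh.HH X L 0)) := by
  haveI := CurveCohLib.isNoetherian_of_proper (k := k) (X := X)
  have hI := isInvertible_ptMod p hp k hdim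
  have hL1 := InvEnd.isFinLocFreeOfRank_one hL
  have hLf := isFinLocFree_of_rank hL1
  let Q := (DCoh.tensorBi.obj L).obj (ClSub.quotMod (ptIdeal p hp))
  have hQc : Coh.IsCoh Q := CurveTensor.isCoh_tensor hLf (isCoh_quot p hp k)
  have hQs : ∀ x ∈ CohB1.support Q, IsClosed ({x} : Set X) := fun x hx =>
    closed_support p hp x (CurveTensor.support_tensor_subset hx)
  have hQe : Curv2.euler k X Q = 1 := by
    rw [CurveTensor.euler_tensor_torsion k hL1 (isCoh_quot p hp k) (closed_support p hp), he]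
    rfl
  have hQ0 : Module.finrank k (Coh.HH X Q 0) = 1 := by
    have h0 := CurveCohLib.euler_eq_finrank_zero (k := k) hQc hQs
    rw [hQe] at h0
    exact_mod_cast h0.symm
  let u : (DCoh.tensorBi.obj L).obj (Coh.structureModule X) ≅ L := KFlatLib.tensorUnitIso L
  have hS := shortExact_of_iso_mid _ _ _ (CurveTensor.shortExact_tensor hLf _ _ _ (shortExact_pt p hp)) u
  let A := (DCoh.tensorBi.obj L).obj (ptMod p hp)
  haveI := CurveCohLib.finite_HH (k := k) (coh_of_free k hLf) 0
  have hle : Module.finrank k (Coh.HH X L 0) ≤ Module.finrank k (Coh.HH X A 0) + 1 :=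
    (CurveDuality.finrank_h0_mid_le k hS (coh_of_free k hLf) hQc).trans (by rw [← hQ0])
  have hinj := CurveCohLib.mapLin_f_zero_injective k hS
  have h1 : Module.finrank k (Coh.HH X A 0) ≤ Module.finrank k (Coh.HH X L 0) :=
    LinearMap.finrank_le_finrank_of_injective hinj
  let q : L ⟶ Q := u.inv ≫ (DCoh.tensorBi.obj L).map (ClSub.toSubscheme (ptIdeal p hp))
  haveI : Epi q := hS.epi_g
  haveI := hS.mono_f
  refine ⟨fun s hs => ?_, fun hbase => ?_⟩
  swap
  · haveI : Module.Finite k (Coh.HH X A 0) :=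
      CurveCohLib.finite_HH (k := k) (coh_of_free k (isFinLocFree_of_rank
        (InvEnd.isFinLocFreeOfRank_one (H23.PicMul.isInvertible_tensor hL hI)))) 0
    refine le_antisymm h1 (LinearMap.finrank_le_finrank_of_surjective (f := mapLin k
      ((DCoh.tensorBi.obj L).map (ClSub.idealModι (ptIdeal p hp)) ≫ u.hom) 0) fun y => ?_)
    obtain ⟨s, rfl⟩ := (RegEpi.evalOneLin_bijective k L).2 y
    have hsq := comp_toSubscheme_eq_zero hL p hp s (hbase s)
    let t := hS.exact.lift s hsq
    refine ⟨RegEpi.evalOneLin k A t, ?_⟩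
    show Canon.HHlin k _ 0 (Canon.HHlin k t 0 (RegEpi.oneClass X)) = _
    rw [PnDual.HHlin_comp, hS.exact.lift_f s hsq]
    rfl
  rcases h1.lt_or_eq with hlt | heq
  · show Module.finrank k (Coh.HH X A 0) + 1 = _
    omega
  exfalso
  have hsq : s ≫ q = 0 := by
    haveI : Module.Finite k (Coh.HH X A 0) :=
      CurveCohLib.finite_HH (k := k) (coh_of_free k (isFinLocFree_of_rank
        (InvEnd.isFinLocFreeOfRank_one (H23.PicMul.isInvertible_tensor hL hI)))) 0
    let f : A ⟶ L := (DCoh.tensorBi.obj L).map (ClSub.idealModι (ptIdeal p hp)) ≫ u.hom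
    have hinjf : Function.Injective (mapLin k f 0) := hinj
    obtain ⟨a, ha⟩ := ((LinearMap.injective_iff_surjective_of_finrank_eq_finrank heq).1 hinjf)
      (RegEpi.evalOneLin k L s)
    have hz : mapLin k q 0 (mapLin k f 0 a) = 0 := CurveCohLib.mapLin_comp_eq_zero (S := ShortComplex.mk f q
      (by simp only [f, q, Category.assoc, Iso.hom_inv_id_assoc, ← Functor.map_comp]
          rw [show ClSub.idealModι (ptIdeal p hp) ≫ ClSub.toSubscheme (ptIdeal p hp) = 0 from kernel.condition _,
            Functor.map_zero])) k 0 a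
    rw [ha] at hz
    apply (RegEpi.evalOneLin_bijective k Q).1
    rw [map_zero]
    show Canon.HHlin k (s ≫ q) 0 (RegEpi.oneClass X) = 0
    rw [← PnDual.HHlin_comp]
    exact hz
  obtain ⟨U, hxU, hfr⟩ := InvX.mem_genLocus hs
  have hone : q.app U (AModX.res L (le_top : U ≤ ⊤) (InvX.one s)) = 0 := by
    rw [AModX.app_res]
    have : q.app ⊤ (InvX.one s) = InvX.one (s ≫ q) := rfl
    rw [this, hsq]
    show AModX.res Q (le_top : U ≤ ⊤) 0 = 0
    exact map_zero _
  have hres : ∀ (V : X.Opens) (hV : V ≤ U) (y : Γ(L, V)), q.app V y = 0 := fun V hV y => by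
    obtain ⟨c, hc⟩ := hfr.exists_coord hV y
    rw [hc, Scheme.Modules.Hom.app_smul, AModX.app_res, hone]
    show c • AModX.res Q hV 0 = 0
    rw [show AModX.res Q hV 0 = 0 from map_zero _, smul_zero]
  haveI : Subsingleton (Q.presheaf.stalk p) := by
    haveI : Epi ((DerSch.stalkFunctor X p).map q) := inferInstance
    refine subsingleton_of_forall_eq 0 fun v => ?_
    obtain ⟨w, rfl⟩ := (ModuleCat.epi_iff_surjective _).1 ‹Epi ((DerSch.stalkFunctor X p).map q)› v
    obtain ⟨W, hW, a, rfl⟩ := L.presheaf.exists_germ_eq (x := p) w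
    rw [← L.presheaf.germ_res_apply (homOfLE (inf_le_left : W ⊓ U ≤ W)) p ⟨hW, hxU⟩ a]
    refine (DerSch.stalkFunctor_map_germ p q (W ⊓ U) ⟨hW, hxU⟩ _).trans ?_
    rw [hres _ inf_le_right]
    exact map_zero _
  have hQz : IsZero Q := KFlatLib.isZero_of_stalk Q fun x => by
    by_cases hx : x = p
    · subst hx
      haveI : Subsingleton ((DerSch.stalkFunctor X x).obj Q) := ‹Subsingleton (Q.presheaf.stalk x)›
      exact ModuleCat.isZero_of_subsingleton _
    · haveI : Subsingleton (Q.presheaf.stalk x) := by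
        by_contra hne
        exact CurveTensor.support_tensor_subset hne (subsingleton_stalk_of_ne p hp hx)
      haveI : Subsingleton ((DerSch.stalkFunctor X x).obj Q) := ‹Subsingleton (Q.presheaf.stalk x)›
      exact ModuleCat.isZero_of_subsingleton _
  rw [euler_eq_zero_of_isZero k hQz] at hQe
  exact zero_ne_one hQe


end Groth.Agent.CurvePts22
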